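import Cfsg.Agent.Lib.PermComp.LiteChain
import Cfsg.Agent.Lib.PermComp.Simple

/-!
# Certificates for the group of degree 112, a Sylow 3-subgroup and an element of order 5
-/

set_option autoImplicit false
set_option maxRecDepth 100000

namespace Cfsg.Agent.Lib.McLRec.CData

open Cfsg.Agent.Lib.PermComp

def PZ_n : Nat := nat_lit 112
def PZ_w : Nat := nat_lit 7
def PZ_mask : Nat := nat_lit 127
def PZ_L : Nat := nat_lit 784
def PZ_maskL : Nat := nat_lit 0xffffffffffffffffffffffffffffffffffffffffffffffffffffffffffffffffffffffffffffffffffffffffffffffffffffffffffffffffffffffffffffffffffffffffffffffffffffffffffffffffffffffffffffffffffffffffffffffffffff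
def PZ_idc : Nat := nat_lit 0xdfbb6ecd7ab4e8cf9b2e4c78b0e0bf7aedcb76acd8af5aad4a74a8d09f3a6cc972a4c88f1a2c4870a0c07ef9ebc76e9cb86ed9ab466c98b05eb96ac56a94a84e992a446890a03e78e9c3668c982e58a9426488901e3868c16284880e182840608080
def PZ_T : List Nat := [nat_lit 0x5ce55e693a33c66e92cef809efcac144d26d24c19da8782420ec72d54bb002c5af0bafbc3868aa73890b3fae25290f9d5c2b921b8da430a9bb5990c38a02d06a65857288d5366881dcc9f61fc7dd88786d5360e302248b3968ad1b2cf44023086dc5, nat_lit 0x12105c311562c21f4c2d61d1ac0a9658ddc9848f80a2340ce0cc56d22ac1cae5f2a791381c1a0180963a91b4d223c8cc988996d5966f6854bf6eb9770f2f3bdd1f5dd80ab03768a33a648ca6ab82a6494c6d5fef3a4f26c7c84825c599b27d3a3561]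
def PZ_prog : List (Nat × Nat × Nat) := [(nat_lit 1, nat_lit 1, nat_lit 0), (nat_lit 1, nat_lit 1, nat_lit 0), (nat_lit 0, nat_lit 3, nat_lit 3), (nat_lit 0, nat_lit 0, nat_lit 3), (nat_lit 0, nat_lit 0, nat_lit 4), (nat_lit 0, nat_lit 0, nat_lit 6), (nat_lit 0, nat_lit 0, nat_lit 7), (nat_lit 0, nat_lit 0, nat_lit 7), (nat_lit 0, nat_lit 0, nat_lit 8), (nat_lit 0, nat_lit 0, nat_lit 10), (nat_lit 0, nat_lit 0, nat_lit 11), (nat_lit 0, nat_lit 0, nat_lit 11), (nat_lit 0, nat_lit 0, nat_lit 12), (nat_lit 0, nat_lit 12, nat_lit 11), (nat_lit 0, nat_lit 0, nat_lit 13), (nat_lit 0, nat_lit 0, nat_lit 14), (nat_lit 0, nat_lit 0, nat_lit 15), (nat_lit 0, nat_lit 0, nat_lit 15), (nat_lit 0, nat_lit 0, nat_lit 17), (nat_lit 0, nat_lit 0, nat_lit 17), (nat_lit 0, nat_lit 0, nat_lit 7), (nat_lit 0, nat_lit 19, nat_lit 20), (nat_lit 0, nat_lit 22, nat_lit 22),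 (nat_lit 0, nat_lit 0, nat_lit 23), (nat_lit 0, nat_lit 0, nat_lit 24), (nat_lit 0, nat_lit 0, nat_lit 26), (nat_lit 0, nat_lit 0, nat_lit 26), (nat_lit 0, nat_lit 0, nat_lit 28), (nat_lit 0, nat_lit 0, nat_lit 29), (nat_lit 0, nat_lit 0, nat_lit 30), (nat_lit 0, nat_lit 0, nat_lit 30), (nat_lit 0, nat_lit 9, nat_lit 30), (nat_lit 0, nat_lit 0, nat_lit 30), (nat_lit 0, nat_lit 0, nat_lit 32), (nat_lit 0, nat_lit 0, nat_lit 3), (nat_lit 1, nat_lit 14, nat_lit 0), (nat_lit 1, nat_lit 1, nat_lit 0), (nat_lit 0, nat_lit 16, nat_lit 2), (nat_lit 0, nat_lit 0, nat_lit 3), (nat_lit 0, nat_lit 3, nat_lit 2), (nat_lit 0, nat_lit 0, nat_lit 3), (nat_lit 0, nat_lit 0, nat_lit 5), (nat_lit 0, nat_lit 7, nat_lit 7), (nat_lit 0, nat_lit 0, nat_lit 22), (nat_lit 0, nat_lit 0, nat_lit 9), (nat_lit 0, nat_lit 3, nat_lit 0), (nat_lit 0, nat_lit 7, nat_lit 25), (nat_lit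 0, nat_lit 0, nat_lit 26), (nat_lit 0, nat_lit 0, nat_lit 13), (nat_lit 0, nat_lit 0, nat_lit 14), (nat_lit 0, nat_lit 10, nat_lit 14), (nat_lit 0, nat_lit 0, nat_lit 14), (nat_lit 0, nat_lit 0, nat_lit 15), (nat_lit 0, nat_lit 0, nat_lit 17), (nat_lit 0, nat_lit 0, nat_lit 17), (nat_lit 0, nat_lit 0, nat_lit 5), (nat_lit 0, nat_lit 35, nat_lit 35), (nat_lit 0, nat_lit 0, nat_lit 22), (nat_lit 0, nat_lit 0, nat_lit 37), (nat_lit 0, nat_lit 0, nat_lit 38), (nat_lit 0, nat_lit 0, nat_lit 25), (nat_lit 0, nat_lit 0, nat_lit 26), (nat_lit 0, nat_lit 0, nat_lit 27), (nat_lit 0, nat_lit 0, nat_lit 42), (nat_lit 0, nat_lit 27, nat_lit 28), (nat_lit 0, nat_lit 0, nat_lit 29), (nat_lit 0, nat_lit 0, nat_lit 29), (nat_lit 0, nat_lit 0, nat_lit 31), (nat_lit 0, nat_lit 0, nat_lit 31), (nat_lit 0, nat_lit 0, nat_lit 5), (nat_lit 1, nat_lit 14, nat_lit 0), (nat_lit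 1, nat_lit 1, nat_lit 0), (nat_lit 0, nat_lit 26, nat_lit 16), (nat_lit 0, nat_lit 0, nat_lit 3), (nat_lit 0, nat_lit 0, nat_lit 4), (nat_lit 0, nat_lit 4, nat_lit 4), (nat_lit 0, nat_lit 0, nat_lit 4), (nat_lit 0, nat_lit 0, nat_lit 2), (nat_lit 0, nat_lit 22, nat_lit 22), (nat_lit 0, nat_lit 0, nat_lit 9), (nat_lit 0, nat_lit 0, nat_lit 34), (nat_lit 0, nat_lit 0, nat_lit 35), (nat_lit 0, nat_lit 0, nat_lit 26), (nat_lit 0, nat_lit 0, nat_lit 37), (nat_lit 0, nat_lit 0, nat_lit 38), (nat_lit 0, nat_lit 0, nat_lit 39), (nat_lit 0, nat_lit 0, nat_lit 16), (nat_lit 0, nat_lit 0, nat_lit 17), (nat_lit 0, nat_lit 0, nat_lit 42), (nat_lit 0, nat_lit 18, nat_lit 17), (nat_lit 0, nat_lit 0, nat_lit 18), (nat_lit 0, nat_lit 0, nat_lit 2)]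
def PZ_s0 : Nat := nat_lit 0x5ce55e693a33c66e92cef809efcac144d26d24c19da8782420ec72d54bb002c5af0bafbc3868aa73890b3fae25290f9d5c2b921b8da430a9bb5990c38a02d06a65857288d5366881dcc9f61fc7dd88786d5360e302248b3968ad1b2cf44023086dc5
def PZ_s1 : Nat := nat_lit 0x7f717e0df15eb4c4a92a999aa6da874c5ebaf7b3cead49cd4d924095248901a0642d8aa0b6ca77c34323dcd5e5580cb4b72c207a11d619a4c29b42b371dd82c6d8a41c8ea36d63448843b1180c972334f5195618be1cb853ce17093e665138472e80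
def PZ_s2 : Nat := nat_lit 0xdbb35599d6092bce72f939ec905ecabe622c55eb6fb5ba81db98742361ae6dd439b0336346d90d393191a678689954972daab0d9f8f164419268c8c8ca042a09002c26efc13a4af01bb4e5cb3672e038b48283149751498890df3d2a99a351c3c080
def PZ_s3 : Nat := nat_lit 0xddb77d6936215fcf460c3953add28daeee0a76b559af37354c372ae3cb1764c9742f488fa316981127e44020f184688d193824f9b1ee87377ed5a3e76e5b382e1cb0656c98af5c319b05aa940d0a10813149130b3a85e3d2a514ac22493a50608080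
def PZ_s4 : Nat := nat_lit 0xcfb776ac1b3268df9b1e9cb8b0eba378e5c9c826d8455a31a8b26fd09f6eca3330691f37569c0870a5445e4091156c9528604d72d2ee8b377ed5a1476e4ab84a913a6995ceda90610dd8f5259e66c54ac6cf5e3e0814307142c409183470f0608080
noncomputable def PZ_lev0 : Core.Lev := Core.mkLev PZ_n PZ_w PZ_mask PZ_L PZ_maskL PZ_idc (nat_lit 0) [PZ_s3, PZ_s4, PZ_s2, PZ_s1, PZ_s0] [(nat_lit 69, PZ_s0, nat_lit 0), (nat_lit 98, PZ_s3, nat_lit 69), (nat_lit 83, PZ_s4, nat_lit 69), (nat_lit 91, PZ_s2, nat_lit 69), (nat_lit 89, PZ_s1, nat_lit 69), (nat_lit 13, PZ_s0, nat_lit 69), (nat_lit 78, PZ_s3, nat_lit 98), (nat_lit 50, PZ_s2, nat_lit 98), (nat_lit 106, PZ_s1, nat_lit 98), (nat_lit 39, PZ_s0, nat_lit 98), (nat_lit 97, PZ_s3, nat_lit 83), (nat_lit 92, PZ_s2, nat_lit 83), (nat_lit 108, PZ_s1, nat_lit 83), (nat_lit 7, PZ_s0, nat_lit 83), (nat_lit 87, PZ_s1, nat_lit 91),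 (nat_lit 105, PZ_s0, nat_lit 91), (nat_lit 77, PZ_s4, nat_lit 89), (nat_lit 86, PZ_s2, nat_lit 89), (nat_lit 103, PZ_s1, nat_lit 89), (nat_lit 3, PZ_s0, nat_lit 89), (nat_lit 60, PZ_s3, nat_lit 13), (nat_lit 6, PZ_s4, nat_lit 13), (nat_lit 41, PZ_s2, nat_lit 13), (nat_lit 23, PZ_s1, nat_lit 13), (nat_lit 17, PZ_s0, nat_lit 13), (nat_lit 107, PZ_s2, nat_lit 78), (nat_lit 34, PZ_s1, nat_lit 78), (nat_lit 58, PZ_s3, nat_lit 50), (nat_lit 88, PZ_s1, nat_lit 50), (nat_lit 16, PZ_s0, nat_lit 50), (nat_lit 104, PZ_s0, nat_lit 106), (nat_lit 37, PZ_s4, nat_lit 39), (nat_lit 4, PZ_s2, nat_lit 39), (nat_lit 99, PZ_s1, nat_lit 39), (nat_lit 53, PZ_s0, nat_lit 39), (nat_lit 32, PZ_s2, nat_lit 97), (nat_lit 95, PZ_s0, nat_lit 97), (nat_lit 96, PZ_s3, nat_lit 92), (nat_lit 38, PZ_s0, nat_lit 92), (nat_lit 102, PZ_s0, nat_lit 108), (nat_lit 12, PZ_s4, nat_lit 7),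 (nat_lit 21, PZ_s2, nat_lit 7), (nat_lit 31, PZ_s1, nat_lit 7), (nat_lit 22, PZ_s0, nat_lit 7), (nat_lit 90, PZ_s2, nat_lit 87), (nat_lit 84, PZ_s0, nat_lit 87), (nat_lit 66, PZ_s3, nat_lit 105), (nat_lit 100, PZ_s4, nat_lit 105), (nat_lit 18, PZ_s2, nat_lit 105), (nat_lit 61, PZ_s1, nat_lit 105), (nat_lit 110, PZ_s2, nat_lit 86), (nat_lit 82, PZ_s1, nat_lit 86), (nat_lit 30, PZ_s0, nat_lit 86), (nat_lit 111, PZ_s4, nat_lit 103), (nat_lit 55, PZ_s0, nat_lit 103), (nat_lit 14, PZ_s2, nat_lit 3), (nat_lit 24, PZ_s0, nat_lit 3), (nat_lit 9, PZ_s2, nat_lit 60), (nat_lit 85, PZ_s1, nat_lit 60), (nat_lit 25, PZ_s1, nat_lit 6), (nat_lit 54, PZ_s3, nat_lit 41), (nat_lit 8, PZ_s2, nat_lit 41), (nat_lit 59, PZ_s1, nat_lit 41), (nat_lit 5, PZ_s0, nat_lit 41), (nat_lit 51, PZ_s4, nat_lit 23), (nat_lit 57, PZ_s2, nat_lit 23), (nat_lit 75, PZ_s1, nat_lit 23), (nat_lit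 44, PZ_s1, nat_lit 17), (nat_lit 65, PZ_s0, nat_lit 17), (nat_lit 73, PZ_s3, nat_lit 107), (nat_lit 63, PZ_s2, nat_lit 34), (nat_lit 35, PZ_s0, nat_lit 34), (nat_lit 62, PZ_s0, nat_lit 58), (nat_lit 29, PZ_s0, nat_lit 88), (nat_lit 11, PZ_s3, nat_lit 16), (nat_lit 20, PZ_s2, nat_lit 16), (nat_lit 43, PZ_s2, nat_lit 104), (nat_lit 52, PZ_s1, nat_lit 104), (nat_lit 70, PZ_s0, nat_lit 104), (nat_lit 48, PZ_s0, nat_lit 37), (nat_lit 15, PZ_s4, nat_lit 4), (nat_lit 19, PZ_s1, nat_lit 4), (nat_lit 2, PZ_s0, nat_lit 4), (nat_lit 74, PZ_s3, nat_lit 99), (nat_lit 101, PZ_s4, nat_lit 99), (nat_lit 79, PZ_s2, nat_lit 99), (nat_lit 76, PZ_s1, nat_lit 99), (nat_lit 64, PZ_s0, nat_lit 99), (nat_lit 46, PZ_s4, nat_lit 53), (nat_lit 27, PZ_s2, nat_lit 53), (nat_lit 67, PZ_s0, nat_lit 53), (nat_lit 47, PZ_s3, nat_lit 32), (nat_lit 109, PZ_s1, nat_lit 32), (nat_lit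 81, PZ_s4, nat_lit 95), (nat_lit 94, PZ_s2, nat_lit 96), (nat_lit 36, PZ_s4, nat_lit 38), (nat_lit 28, PZ_s2, nat_lit 102), (nat_lit 42, PZ_s1, nat_lit 102), (nat_lit 72, PZ_s4, nat_lit 31), (nat_lit 49, PZ_s1, nat_lit 31), (nat_lit 56, PZ_s2, nat_lit 22), (nat_lit 26, PZ_s4, nat_lit 84), (nat_lit 68, PZ_s3, nat_lit 66), (nat_lit 10, PZ_s2, nat_lit 18), (nat_lit 33, PZ_s3, nat_lit 14), (nat_lit 71, PZ_s0, nat_lit 24), (nat_lit 80, PZ_s2, nat_lit 85), (nat_lit 40, PZ_s3, nat_lit 25), (nat_lit 45, PZ_s0, nat_lit 75), (nat_lit 1, PZ_s0, nat_lit 15), (nat_lit 93, PZ_s2, nat_lit 76)]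
noncomputable def PZ_lev1 : Core.Lev := Core.mkLev PZ_n PZ_w PZ_mask PZ_L PZ_maskL PZ_idc (nat_lit 1) [PZ_s3, PZ_s4, PZ_s2, PZ_s1] [(nat_lit 93, PZ_s1, nat_lit 1), (nat_lit 28, PZ_s4, nat_lit 93), (nat_lit 76, PZ_s2, nat_lit 93), (nat_lit 11, PZ_s1, nat_lit 93), (nat_lit 48, PZ_s3, nat_lit 28), (nat_lit 59, PZ_s2, nat_lit 28), (nat_lit 4, PZ_s1, nat_lit 28), (nat_lit 35, PZ_s4, nat_lit 76), (nat_lit 26, PZ_s1, nat_lit 76), (nat_lit 21, PZ_s3, nat_lit 11), (nat_lit 10, PZ_s4, nat_lit 11), (nat_lit 68, PZ_s2, nat_lit 11), (nat_lit 30, PZ_s1, nat_lit 11), (nat_lit 55, PZ_s3, nat_lit 48), (nat_lit 65, PZ_s2, nat_lit 48), (nat_lit 36, PZ_s1, nat_lit 48), (nat_lit 43, PZ_s4, nat_lit 59), (nat_lit 74, PZ_s2, nat_lit 59), (nat_lit 64, PZ_s1, nat_lit 59), (nat_lit 37, PZ_s3, nat_lit 4), (nat_lit 15, PZ_s4, nat_lit 4), (nat_lit 53, PZ_s2, nat_lit 4), (nat_lit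 19, PZ_s1, nat_lit 4), (nat_lit 100, PZ_s1, nat_lit 35), (nat_lit 42, PZ_s3, nat_lit 26), (nat_lit 84, PZ_s4, nat_lit 26), (nat_lit 23, PZ_s2, nat_lit 26), (nat_lit 16, PZ_s3, nat_lit 21), (nat_lit 41, PZ_s4, nat_lit 21), (nat_lit 7, PZ_s2, nat_lit 21), (nat_lit 102, PZ_s1, nat_lit 21), (nat_lit 20, PZ_s3, nat_lit 10), (nat_lit 67, PZ_s2, nat_lit 10), (nat_lit 56, PZ_s1, nat_lit 10), (nat_lit 105, PZ_s3, nat_lit 68), (nat_lit 39, PZ_s1, nat_lit 68), (nat_lit 12, PZ_s3, nat_lit 30), (nat_lit 24, PZ_s4, nat_lit 30), (nat_lit 60, PZ_s2, nat_lit 30), (nat_lit 81, PZ_s1, nat_lit 30), (nat_lit 85, PZ_s2, nat_lit 55), (nat_lit 22, PZ_s1, nat_lit 55), (nat_lit 79, PZ_s3, nat_lit 65), (nat_lit 99, PZ_s2, nat_lit 65), (nat_lit 6, PZ_s1, nat_lit 65), (nat_lit 38, PZ_s4, nat_lit 36), (nat_lit 66, PZ_s2, nat_lit 36), (nat_lit 70, PZ_s2, nat_lit 43), (nat_lit 27,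 PZ_s1, nat_lit 43), (nat_lit 80, PZ_s3, nat_lit 74), (nat_lit 17, PZ_s2, nat_lit 64), (nat_lit 5, PZ_s2, nat_lit 37), (nat_lit 29, PZ_s3, nat_lit 15), (nat_lit 75, PZ_s2, nat_lit 15), (nat_lit 95, PZ_s1, nat_lit 15), (nat_lit 31, PZ_s3, nat_lit 53), (nat_lit 46, PZ_s4, nat_lit 53), (nat_lit 54, PZ_s4, nat_lit 19), (nat_lit 40, PZ_s1, nat_lit 19), (nat_lit 57, PZ_s3, nat_lit 42), (nat_lit 71, PZ_s1, nat_lit 42), (nat_lit 51, PZ_s4, nat_lit 23), (nat_lit 62, PZ_s4, nat_lit 16), (nat_lit 8, PZ_s2, nat_lit 41), (nat_lit 44, PZ_s4, nat_lit 20), (nat_lit 25, PZ_s3, nat_lit 56), (nat_lit 45, PZ_s2, nat_lit 56), (nat_lit 18, PZ_s2, nat_lit 105), (nat_lit 61, PZ_s1, nat_lit 105), (nat_lit 13, PZ_s3, nat_lit 24), (nat_lit 9, PZ_s2, nat_lit 60), (nat_lit 104, PZ_s2, nat_lit 81), (nat_lit 49, PZ_s4, nat_lit 22), (nat_lit 72, PZ_s1, nat_lit 22), (nat_lit 101,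 PZ_s3, nat_lit 79), (nat_lit 14, PZ_s4, nat_lit 5), (nat_lit 52, PZ_s2, nat_lit 5), (nat_lit 33, PZ_s4, nat_lit 29), (nat_lit 3, PZ_s2, nat_lit 29), (nat_lit 2, PZ_s1, nat_lit 40)]
noncomputable def PZ_lev2 : Core.Lev := Core.mkLev PZ_n PZ_w PZ_mask PZ_L PZ_maskL PZ_idc (nat_lit 2) [PZ_s3, PZ_s4, PZ_s2] [(nat_lit 15, PZ_s2, nat_lit 2), (nat_lit 29, PZ_s3, nat_lit 15), (nat_lit 4, PZ_s4, nat_lit 15), (nat_lit 75, PZ_s2, nat_lit 15), (nat_lit 51, PZ_s3, nat_lit 29), (nat_lit 33, PZ_s4, nat_lit 29), (nat_lit 3, PZ_s2, nat_lit 29), (nat_lit 37, PZ_s3, nat_lit 4), (nat_lit 53, PZ_s2, nat_lit 4), (nat_lit 25, PZ_s4, nat_lit 75), (nat_lit 23, PZ_s4, nat_lit 51), (nat_lit 71, PZ_s2, nat_lit 51), (nat_lit 49, PZ_s3, nat_lit 33), (nat_lit 14, PZ_s2, nat_lit 3), (nat_lit 22, PZ_s3, nat_lit 37), (nat_lit 39, PZ_s4, nat_lit 37), (nat_lit 5, PZ_s2, nat_lit 37),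 (nat_lit 31, PZ_s3, nat_lit 53), (nat_lit 46, PZ_s4, nat_lit 53), (nat_lit 27, PZ_s2, nat_lit 53), (nat_lit 40, PZ_s3, nat_lit 25), (nat_lit 57, PZ_s2, nat_lit 23), (nat_lit 72, PZ_s2, nat_lit 49), (nat_lit 84, PZ_s2, nat_lit 14), (nat_lit 56, PZ_s2, nat_lit 22), (nat_lit 52, PZ_s2, nat_lit 5), (nat_lit 26, PZ_s2, nat_lit 46), (nat_lit 45, PZ_s3, nat_lit 27), (nat_lit 42, PZ_s2, nat_lit 40)]
noncomputable def PZ_lev3 : Core.Lev := Core.mkLev PZ_n PZ_w PZ_mask PZ_L PZ_maskL PZ_idc (nat_lit 4) [PZ_s3, PZ_s4] [(nat_lit 37, PZ_s3, nat_lit 4), (nat_lit 15, PZ_s4, nat_lit 4), (nat_lit 22, PZ_s3, nat_lit 37), (nat_lit 39, PZ_s4, nat_lit 37), (nat_lit 29, PZ_s3, nat_lit 15), (nat_lit 49, PZ_s4, nat_lit 22), (nat_lit 23, PZ_s3, nat_lit 39), (nat_lit 51, PZ_s3, nat_lit 29), (nat_lit 33, PZ_s4, nat_lit 29), (nat_lit 14, PZ_s3, nat_lit 49), (nat_lit 5, PZ_s3,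 nat_lit 23)]
noncomputable def PZ_levels : List Core.Lev := [PZ_lev0, PZ_lev1, PZ_lev2, PZ_lev3]
def SZ_n : Nat := nat_lit 112
def SZ_w : Nat := nat_lit 7
def SZ_mask : Nat := nat_lit 127
def SZ_L : Nat := nat_lit 784
def SZ_maskL : Nat := nat_lit 0xffffffffffffffffffffffffffffffffffffffffffffffffffffffffffffffffffffffffffffffffffffffffffffffffffffffffffffffffffffffffffffffffffffffffffffffffffffffffffffffffffffffffffffffffffffffffffffffffffff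
def SZ_idc : Nat := nat_lit 0xdfbb6ecd7ab4e8cf9b2e4c78b0e0bf7aedcb76acd8af5aad4a74a8d09f3a6cc972a4c88f1a2c4870a0c07ef9ebc76e9cb86ed9ab466c98b05eb96ac56a94a84e992a446890a03e78e9c3668c982e58a9426488901e3868c16284880e182840608080
def SZ_T : List Nat := [nat_lit 0xc536bbfc3ab190d8841364f6d920d1814eedf1512f9364ac0a74a6377b62e061e376985075d4b94b181fcf05a144b68da646ab34f49ae3be9c79c012590cb1d2b4b13a159adea8144031672e8c56ec391665de5f88121c87394746ab45709342a100, nat_lit 0x44bdd6c9da8e93b4f8125cb8b0d9a378bdcc15edd8cf584aea7481917b375b02a9a486502a2810838c44da4095066fc69b47a0d2939b9b96641e5b8bb20c94d2790c1628326f73293bb5831a2457316c76d3de668614fb5aa205c6a8aa10fbf8e000, nat_lit 0x40bf6c59d4a62db424604355ae59378b258c15ede1cf7a392d54d62a31375858c4764a204e4b15676a237e2d20602e81347655c8381b8e42653c419427afe62cf078767be1a2cb4184452368ae4a3853e97064552e9f19f28d94687a9b4dd70d5b80,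 nat_lit 0xb16915b8ba8416accc54104c9fce31b9eed9b7b5bac4bc49ba74a8a3bb276131a9b0482996cd5083819e40aa7c777be10f62da62b0d5d430cf0c2b82e70937c62efa423710e196074be0e694a568316bc6a6681058e4fe8951a21da998aaec89e000]
def SZ_prog : List (Nat × Nat × Nat) := [(nat_lit 1, nat_lit 3, nat_lit 0), (nat_lit 1, nat_lit 3, nat_lit 0), (nat_lit 1, nat_lit 3, nat_lit 0), (nat_lit 1, nat_lit 3, nat_lit 0), (nat_lit 0, nat_lit 6, nat_lit 7), (nat_lit 0, nat_lit 0, nat_lit 5), (nat_lit 0, nat_lit 0, nat_lit 6), (nat_lit 0, nat_lit 0, nat_lit 9), (nat_lit 0, nat_lit 0, nat_lit 11), (nat_lit 0, nat_lit 0, nat_lit 12), (nat_lit 0, nat_lit 0, nat_lit 13), (nat_lit 0, nat_lit 10, nat_lit 9), (nat_lit 0, nat_lit 0, nat_lit 1), (nat_lit 0, nat_lit 14, nat_lit 15), (nat_lit 0, nat_lit 0, nat_lit 15), (nat_lit 0, nat_lit 0, nat_lit 16), (nat_lit 0, nat_lit 0, nat_lit 17), (nat_lit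 0, nat_lit 0, nat_lit 20), (nat_lit 0, nat_lit 0, nat_lit 19), (nat_lit 0, nat_lit 16, nat_lit 15), (nat_lit 0, nat_lit 0, nat_lit 17), (nat_lit 0, nat_lit 0, nat_lit 2)]
def SZ_s0 : Nat := nat_lit 0x40bf6c59d4a62db424604355ae59378b258c15ede1cf7a392d54d62a31375858c4764a204e4b15676a237e2d20602e81347655c8381b8e42653c419427afe62cf078767be1a2cb4184452368ae4a3853e97064552e9f19f28d94687a9b4dd70d5b80
def SZ_s1 : Nat := nat_lit 0xdb5ac4dc1a844cdc731988d5d045a3695a292cb66f5f9ea84a74a0a3bb6ecb00b2a733639759e870af89b841491cd865d4a030d195579468c46cfac9f209473b010e46efc1ba1c2c13b1e58ba468d4abc6cf4a065cb469389a530a0ef9cb84a9c080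
def SZ_s2 : Nat := nat_lit 0xcf6775845a8a419ba11866f2713f39172de75af6d69db2ab8a749dcf8c837df732b09a3342e440e57340644c51260bc28456912a72d80bd1b66cfc3c6d74b45099510bb6a4571c7a3cc1e84ebe040c6a93021eb65cb616416444bc58325d466c4080
noncomputable def SZ_lev0 : Core.Lev := Core.mkLev SZ_n SZ_w SZ_mask SZ_L SZ_maskL SZ_idc (nat_lit 1) [SZ_s1, SZ_s2, SZ_s0] [(nat_lit 55, SZ_s0, nat_lit 1), (nat_lit 80, SZ_s1, nat_lit 55), (nat_lit 43, SZ_s2, nat_lit 55), (nat_lit 59, SZ_s0, nat_lit 55), (nat_lit 35, SZ_s1, nat_lit 80), (nat_lit 79, SZ_s2, nat_lit 80), (nat_lit 42, SZ_s0, nat_lit 80), (nat_lit 99, SZ_s2, nat_lit 43), (nat_lit 33, SZ_s0, nat_lit 43), (nat_lit 102, SZ_s1, nat_lit 59), (nat_lit 48, SZ_s2, nat_lit 59), (nat_lit 93, SZ_s2, nat_lit 35), (nat_lit 51, SZ_s0, nat_lit 35), (nat_lit 70, SZ_s2, nat_lit 79), (nat_lit 24, SZ_s0, nat_lit 79), (nat_lit 72,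 SZ_s1, nat_lit 42), (nat_lit 53, SZ_s2, nat_lit 42), (nat_lit 30, SZ_s0, nat_lit 42), (nat_lit 26, SZ_s0, nat_lit 99), (nat_lit 3, SZ_s1, nat_lit 33), (nat_lit 67, SZ_s0, nat_lit 33), (nat_lit 28, SZ_s1, nat_lit 102), (nat_lit 104, SZ_s2, nat_lit 102), (nat_lit 9, SZ_s0, nat_lit 102), (nat_lit 81, SZ_s2, nat_lit 48), (nat_lit 66, SZ_s0, nat_lit 48), (nat_lit 101, SZ_s2, nat_lit 93), (nat_lit 100, SZ_s0, nat_lit 93), (nat_lit 22, SZ_s2, nat_lit 51), (nat_lit 64, SZ_s0, nat_lit 51), (nat_lit 19, SZ_s0, nat_lit 70), (nat_lit 36, SZ_s1, nat_lit 24), (nat_lit 62, SZ_s2, nat_lit 24), (nat_lit 46, SZ_s0, nat_lit 24), (nat_lit 74, SZ_s0, nat_lit 72), (nat_lit 37, SZ_s2, nat_lit 53), (nat_lit 57, SZ_s0, nat_lit 53), (nat_lit 11, SZ_s1, nat_lit 30), (nat_lit 13, SZ_s0, nat_lit 26), (nat_lit 56, SZ_s0, nat_lit 3), (nat_lit 7, SZ_s2, nat_lit 67), (nat_lit 76,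 SZ_s2, nat_lit 28), (nat_lit 68, SZ_s0, nat_lit 28), (nat_lit 65, SZ_s2, nat_lit 104), (nat_lit 45, SZ_s0, nat_lit 104), (nat_lit 38, SZ_s1, nat_lit 9), (nat_lit 40, SZ_s0, nat_lit 9), (nat_lit 44, SZ_s0, nat_lit 81), (nat_lit 21, SZ_s2, nat_lit 66), (nat_lit 29, SZ_s0, nat_lit 66), (nat_lit 12, SZ_s0, nat_lit 101), (nat_lit 6, SZ_s2, nat_lit 100), (nat_lit 4, SZ_s0, nat_lit 100), (nat_lit 14, SZ_s0, nat_lit 22), (nat_lit 54, SZ_s1, nat_lit 19), (nat_lit 75, SZ_s0, nat_lit 19), (nat_lit 16, SZ_s2, nat_lit 36), (nat_lit 27, SZ_s1, nat_lit 46), (nat_lit 17, SZ_s0, nat_lit 74), (nat_lit 15, SZ_s0, nat_lit 37), (nat_lit 5, SZ_s2, nat_lit 57), (nat_lit 2, SZ_s0, nat_lit 57), (nat_lit 20, SZ_s0, nat_lit 11), (nat_lit 84, SZ_s1, nat_lit 56), (nat_lit 52, SZ_s0, nat_lit 56), (nat_lit 61, SZ_s0, nat_lit 7), (nat_lit 95, SZ_s2, nat_lit 76), (nat_lit 49, SZ_s0,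 nat_lit 68), (nat_lit 31, SZ_s1, nat_lit 45), (nat_lit 8, SZ_s0, nat_lit 45), (nat_lit 60, SZ_s0, nat_lit 38), (nat_lit 71, SZ_s1, nat_lit 40), (nat_lit 25, SZ_s0, nat_lit 44), (nat_lit 10, SZ_s0, nat_lit 21), (nat_lit 39, SZ_s0, nat_lit 14), (nat_lit 85, SZ_s0, nat_lit 16), (nat_lit 41, SZ_s0, nat_lit 27), (nat_lit 23, SZ_s0, nat_lit 15), (nat_lit 105, SZ_s0, nat_lit 5), (nat_lit 18, SZ_s0, nat_lit 84)]
noncomputable def SZ_lev1 : Core.Lev := Core.mkLev SZ_n SZ_w SZ_mask SZ_L SZ_maskL SZ_idc (nat_lit 2) [SZ_s1, SZ_s2] [(nat_lit 39, SZ_s1, nat_lit 2), (nat_lit 49, SZ_s2, nat_lit 2), (nat_lit 29, SZ_s1, nat_lit 39), (nat_lit 40, SZ_s2, nat_lit 39), (nat_lit 23, SZ_s2, nat_lit 49), (nat_lit 71, SZ_s2, nat_lit 29), (nat_lit 52, SZ_s2, nat_lit 40), (nat_lit 25, SZ_s2, nat_lit 71)]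
noncomputable def SZ_levels : List Core.Lev := [SZ_lev0, SZ_lev1]
def uF : Nat := nat_lit 0x97be6d26a305c51f71857656dd5680392d46d46241c39aae04dba62c1b2ad6dd989a5050a6ebdc6de7d385919ae90fa1b85b39e31381c8213054fa20820882025849954eef497f9d7d9b1193ea497f58a0c141a0d394d9d3c0342b731ca23344cb92

end Cfsg.Agent.Lib.McLRec.CData
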